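import Groth.Agent.KrullAki.Valuation

/-!
Elements with poles at all valuations over a one-dimensional local domain.
-/

namespace Groth.Agent.GGDiv

variable {K : Type*} [Field K]

/-- An element with a pole at each of finitely many valuations. -/
theorem exists_pole (A : Subring K) {S : Set (ValuationSubring K)} (hS : S.Finite)
    (h : ∀ V ∈ S, ∃ a ∈ A, a ∉ V) : ∃ a ∈ A, ∀ V ∈ S, a ∉ V := by
  induction S, hS using Set.Finite.induction_on with
  | empty => exact ⟨1, one_mem _, fun V hV => hV.elim⟩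
  | @insert V S _ hS ih =>
    obtain ⟨a, haA, ha⟩ := ih fun W hW => h W (Set.mem_insert_of_mem _ hW)
    obtain ⟨b, hbA, hb⟩ := h V (Set.mem_insert _ _)
    by_cases haV : a ∈ V
    · have hlt : ∀ W ∈ S, 1 < W.valuation a := fun W hW => lt_of_not_ge fun hle =>
        ha W hW ((W.valuation_le_one_iff a).1 hle)
      -- avoid the finitely many bad exponents
      have hbad : {n : ℕ | ∃ W ∈ S, W.valuation a ^ n = W.valuation b}.Finite := by
        have : {n : ℕ | ∃ W ∈ S, W.valuation a ^ n = W.valuation b} =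
            ⋃ W ∈ S, {n : ℕ | W.valuation a ^ n = W.valuation b} := by
          ext n; simp
        rw [this]
        refine Set.Finite.biUnion (by assumption) fun W hW => Set.Subsingleton.finite fun n hn m hm => ?_
        exact (pow_right_strictMono₀ (hlt W hW)).injective (hn.trans hm.symm)
      obtain ⟨n, hn⟩ := (hbad.union (Set.finite_singleton 0)).infinite_compl.nonempty
      simp only [Set.mem_compl_iff, Set.mem_union, Set.mem_setOf_eq, Set.mem_singleton_iff, not_or, not_exists,
        not_and] at hn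
      refine ⟨a ^ n + b, add_mem (pow_mem haA n) hbA, ?_⟩
      intro W hW hmem
      rcases Set.mem_insert_iff.1 hW with rfl | hW
      · exact hb (by simpa using sub_mem hmem (pow_mem haV n))
      · have h1 : W.valuation (a ^ n + b) = max (W.valuation (a ^ n)) (W.valuation b) :=
          W.valuation.map_add_of_distinct_val (by rw [map_pow]; exact hn.1 W hW)
        have h2 := (W.valuation_le_one_iff _).2 hmem
        rw [h1, map_pow] at h2
        exact absurd (lt_of_lt_of_le (one_lt_pow₀ (hlt W hW) hn.2) (le_max_left _ _ |>.trans h2)) (lt_irrefl _)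
    · refine ⟨a, haA, fun W hW => ?_⟩
      rcases Set.mem_insert_iff.1 hW with rfl | hW
      · exact haV
      · exact ha W hW

/-- A high power of the inverse of an element with all poles lies in the ring. -/
theorem exists_inv_pow_mem (B : Subring K) [IsFractionRing B K] [IsNoetherianRing B]
    [Ring.KrullDimLE 1 B] (hB : B ≠ ⊤) {a : K}
    (ha : ∀ V : ValuationSubring K, B ≤ V.toSubring → V ≠ ⊤ → a ∉ V) :
    ∃ N : ℕ, ∀ n, N < n → ∃ h : (a⁻¹) ^ n ∈ B, ¬ IsUnit (⟨(a⁻¹) ^ n, h⟩ : B) := by
  obtain ⟨V₀, hV₀, hV₀'⟩ := KrullAki.exists_valuationSubring_of_ne_top (C := B) hB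
  have ht : ∀ V : ValuationSubring K, B ≤ V.toSubring → V ≠ ⊤ → a⁻¹ ∈ V.nonunits := fun V hV hV' =>
    (ValuationSubring.inv_mem_nonunits_iff _).2 (Or.inr (ha V hV hV'))
  obtain ⟨N, hN⟩ := KrullAki.exists_pow_mul_mem_of_isIntegral hB ht (y := 1) isIntegral_one
  refine ⟨N, fun n hn => ⟨by simpa using hN n hn.le, fun hu => ?_⟩⟩
  obtain ⟨w, hw⟩ := hu.exists_right_inv
  have hw' : (a⁻¹) ^ n * (w : K) = 1 := congrArg Subtype.val hw
  have hwV : (w : K) = a ^ n := by
    rw [← inv_eq_of_mul_eq_one_right hw', inv_pow, inv_inv]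
  have h1 : a ^ n ∈ V₀ := hwV ▸ hV₀ w.2
  refine ha V₀ hV₀ hV₀' ((V₀.valuation_le_one_iff a).1 ?_)
  by_contra h
  have h2 := (V₀.valuation_le_one_iff _).2 h1
  rw [map_pow] at h2
  exact absurd h2 (not_le.2 (one_lt_pow₀ (lt_of_not_ge h) (by omega)))

end Groth.Agent.GGDiv
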