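import Groth.Agent.GGDiv.Alg
import Groth.Agent.PicExtendPts.Glue
import Groth.Agent.InvX.GenEpi
import Groth.Agent.ProjUPX.Affine

/-!
A globally generated invertible module with a section whose locus is a given affine open.
-/

set_option autoImplicit false
set_option backward.isDefEq.respectTransparency false
set_option backward.isDefEq.respectTransparency.types false
set_option linter.style.haveILetI false

universe u

open CategoryTheory CategoryTheory.Limits AlgebraicGeometry TopologicalSpace Opposite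
open Groth.Agent.AModX Groth.Agent.InvX Groth.Agent.PicTorsThick

namespace Groth.Agent.GGDiv

variable {X : Scheme.{u}} [IsIntegral X]

/-- The local ring inside the function field. -/
noncomputable def localSub (x : X) : Subring X.functionField :=
  (algebraMap (X.presheaf.stalk x) X.functionField).range

/-- The local ring is its image. -/
noncomputable def localEquiv (x : X) : X.presheaf.stalk x ≃+* localSub x :=
  RingEquiv.ofBijective (algebraMap (X.presheaf.stalk x) X.functionField).rangeRestrict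
    ⟨fun a b h => IsFractionRing.injective (X.presheaf.stalk x) X.functionField (congrArg Subtype.val h),
      RingHom.rangeRestrict_surjective _⟩

instance isFractionRing_localSub (x : X) : IsFractionRing (localSub x) X.functionField := by
  refine IsFractionRing.of_field _ _ fun z => ?_
  obtain ⟨p, q, -, rfl⟩ := IsFractionRing.div_surjective (A := X.presheaf.stalk x) z
  exact ⟨localEquiv x p, localEquiv x q, rfl⟩

/-- Sections over an open inside the function field. -/
noncomputable def openSub (U : X.Opens) [Nonempty U] : Subring X.functionField :=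
  (algebraMap Γ(X, U) X.functionField).range

/-- Separatedness: a valuation ring centred outside an affine open misses one of its functions. -/
theorem exists_notMem [X.IsSeparated] {U : X.Opens} (hU : IsAffineOpen U) [Nonempty U] {x : X} (hx : x ∉ U)
    (hdim : ringKrullDim (X.presheaf.stalk x) ≤ 1) (V : ValuationSubring X.functionField)
    (hV : localSub x ≤ V.toSubring) (hV' : V ≠ ⊤) : ∃ a ∈ openSub U, a ∉ V := by
  by_contra hcon
  push Not at hcon
  let ψ : X.presheaf.stalk x →+* V.toSubring :=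
    (Subring.inclusion hV).comp (localEquiv x).toRingHom
  let φ : Γ(X, U) →+* V.toSubring :=
    (algebraMap Γ(X, U) X.functionField).codRestrict V.toSubring fun r => hcon _ ⟨r, rfl⟩
  let ιK : CommRingCat.of V.toSubring ⟶ X.functionField := CommRingCat.ofHom V.toSubring.subtype
  let g₁ : Spec (CommRingCat.of V.toSubring) ⟶ X :=
    Spec.map (CommRingCat.ofHom ψ) ≫ X.fromSpecStalk x
  let g₂ : Spec (CommRingCat.of V.toSubring) ⟶ X := Spec.map (CommRingCat.ofHom φ) ≫ hU.fromSpec
  haveI : IsReduced (Spec (CommRingCat.of V.toSubring)) := inferInstance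
  haveI : IsDominant (Spec.map ιK) := ⟨by
    refine PrimeSpectrum.denseRange_comap_iff_ker_le_nilRadical _ |>.2 ?_
    rw [show RingHom.ker ιK.hom = ⊥ from (RingHom.injective_iff_ker_eq_bot _).1 Subtype.val_injective]
    exact bot_le⟩
  have hg : g₁ = g₂ := by
    refine ext_of_isDominant_of_isSeparated (terminal.from X) (terminal.hom_ext _ _) (Spec.map ιK) ?_
    have e1 : Spec.map ιK ≫ g₁ = X.fromSpecStalk (genericPoint X) := by
      rw [show g₁ = Spec.map (CommRingCat.ofHom ψ) ≫ X.fromSpecStalk x from rfl, ← Category.assoc, ← Spec.map_comp,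
        show CommRingCat.ofHom ψ ≫ ιK =
          X.presheaf.stalkSpecializes ((genericPoint_spec X).specializes trivial) from rfl]
      exact Scheme.SpecMap_stalkSpecializes_fromSpecStalk _
    have hη : genericPoint X ∈ U := ((genericPoint_spec X).mem_open_set_iff U.isOpen).2 (by
      obtain ⟨⟨y, hy⟩⟩ := ‹Nonempty U›; exact ⟨y, trivial, hy⟩)
    rw [e1, show g₂ = Spec.map (CommRingCat.ofHom φ) ≫ hU.fromSpec from rfl, ← Category.assoc, ← Spec.map_comp,
      show CommRingCat.ofHom φ ≫ ιK = X.presheaf.germ U (genericPoint X) hη from rfl,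
      ← hU.fromSpecStalk_eq_fromSpecStalk hη]
    rfl
  let c : Spec (CommRingCat.of V.toSubring) := (IsLocalRing.closedPoint V : PrimeSpectrum V)
  have h1 : g₁ c = x := by
    haveI : Ring.KrullDimLE 1 (localSub x) := Ring.krullDimLE_iff.2 (by
      rw [← ringKrullDim_eq_of_ringEquiv (localEquiv x)]; exact hdim)
    haveI := KrullAki.comapIdeal_isMaximal (C := localSub x) hV hV'
    have hmax : Spec.map (CommRingCat.ofHom ψ) c = IsLocalRing.closedPoint (X.presheaf.stalk x) := by
      refine PrimeSpectrum.ext ?_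
      refine IsLocalRing.eq_maximalIdeal ?_
      show ((KrullAki.comapIdeal hV).comap (localEquiv x).toRingHom).IsMaximal
      exact Ideal.comap_isMaximal_of_surjective _ (localEquiv x).surjective
    show X.fromSpecStalk x (Spec.map (CommRingCat.ofHom ψ) c) = x
    rw [hmax]
    exact Scheme.fromSpecStalk_closedPoint
  have h2 : g₂ c ∈ U := by
    rw [← SetLike.mem_coe, ← hU.range_fromSpec]
    exact ⟨Spec.map (CommRingCat.ofHom φ) c, rfl⟩
  rw [← hg, h1] at h2
  exact hx h2

/-- The divisor: a function on the open with large poles at every outside point. -/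
theorem exists_pole_function [X.IsSeparated] {U : X.Opens} (hU : IsAffineOpen U) [Nonempty U]
    (hfin : ((U : Set X)ᶜ).Finite)
    (hloc : ∀ x : X, x ∉ U → IsNoetherianRing (X.presheaf.stalk x) ∧ ringKrullDim (X.presheaf.stalk x) = 1) :
    ∃ a : Γ(X, U), ∀ x : X, x ∉ U → ∃ b ∈ IsLocalRing.maximalIdeal (X.presheaf.stalk x),
      algebraMap (X.presheaf.stalk x) X.functionField b * algebraMap Γ(X, U) X.functionField a = 1 := by
  classical
  have hB : ∀ x : X, x ∉ U → IsNoetherianRing (localSub x) ∧ Ring.KrullDimLE 1 (localSub x) ∧ localSub x ≠ ⊤ ∧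
      Finite (MaximalSpectrum (localSub x)) := fun x hx => by
    haveI := (hloc x hx).1
    have hd : ringKrullDim (localSub x) = 1 := by
      rw [← ringKrullDim_eq_of_ringEquiv (localEquiv x)]; exact (hloc x hx).2
    haveI : IsLocalRing (localSub x) := (localEquiv x).isLocalRing
    exact ⟨isNoetherianRing_of_ringEquiv _ (localEquiv x), KrullAki.krullDimLE_one_of_dim_eq_one hd,
      KrullAki.ne_top_of_dim_eq_one _ hd, inferInstance⟩
  let S : Set (ValuationSubring X.functionField) :=
    ⋃ x ∈ (U : Set X)ᶜ, {V | localSub x ≤ V.toSubring ∧ V ≠ ⊤}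
  have hS : S.Finite := hfin.biUnion fun x hx => by
    obtain ⟨h1, h2, -, h4⟩ := hB x hx
    exact KrullAki.finite_valuationSubrings (localSub x)
  obtain ⟨_, ⟨a, rfl⟩, ha⟩ := exists_pole (openSub U) hS fun V hV => by
    obtain ⟨x, hx, hxV⟩ := Set.mem_iUnion₂.1 hV
    exact exists_notMem hU hx (hloc x hx).2.le V hxV.1 hxV.2
  have hN : ∀ x : X, ∃ N : ℕ, x ∉ U → ∀ n, N < n →
      ∃ b ∈ IsLocalRing.maximalIdeal (X.presheaf.stalk x),
        algebraMap (X.presheaf.stalk x) X.functionField b * (algebraMap Γ(X, U) X.functionField a) ^ n = 1 := by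
    intro x
    by_cases hx : x ∈ U
    · exact ⟨0, fun h => absurd hx h⟩
    obtain ⟨h1, h2, h3, -⟩ := hB x hx
    obtain ⟨N, hN⟩ := exists_inv_pow_mem (localSub x) h3 (a := algebraMap Γ(X, U) X.functionField a)
      fun V hV hV' => ha V (Set.mem_iUnion₂.2 ⟨x, hx, hV, hV'⟩)
    refine ⟨N, fun _ n hn => ?_⟩
    obtain ⟨hmem, hnu⟩ := hN n hn
    obtain ⟨b, hb⟩ := hmem
    refine ⟨b, fun hu => hnu ?_, ?_⟩
    · have := hu.map (localEquiv x)
      convert this using 1
      exact Subtype.ext hb.symm
    · rw [hb, ← mul_pow, inv_mul_cancel₀, one_pow]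
      intro h0
      obtain ⟨V, hV, hV'⟩ := KrullAki.exists_valuationSubring_of_ne_top h3
      exact ha V (Set.mem_iUnion₂.2 ⟨x, hx, hV, hV'⟩) (h0 ▸ zero_mem V)
  choose N hN using hN
  refine ⟨a ^ (hfin.toFinset.sup N + 1), fun x hx => ?_⟩
  rw [map_pow]
  exact hN x hx _ (Nat.lt_succ_of_le (Finset.le_sup (hfin.mem_toFinset.2 hx)))

/-- Points outside an open with one-dimensional local rings are closed, if finitely many. -/
theorem isClosed_singleton_of_notMem {U : X.Opens} [Nonempty U] {z : X}
    (hloc : ∀ x : X, x ∉ U → ringKrullDim (X.presheaf.stalk x) ≤ 1) (hz : z ∉ U) : IsClosed ({z} : Set X) := by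
  refine closure_subset_iff_isClosed.1 fun y hy => ?_
  have hyU : y ∉ U := fun h => hz (by
    obtain ⟨_, ha, hz'⟩ := mem_closure_iff.1 hy U U.isOpen h
    exact Set.mem_singleton_iff.1 hz' ▸ ha)
  have hzy : z ⤳ y := specializes_iff_mem_closure.2 hy
  obtain ⟨p, hp⟩ : z ∈ Set.range (X.fromSpecStalk y) := by
    rw [Scheme.range_fromSpecStalk]; exact hzy
  haveI : Ring.KrullDimLE 1 (X.presheaf.stalk y) := Ring.krullDimLE_iff.2 (hloc y hyU)
  by_cases hbot : p.asIdeal = ⊥
  · exfalso
    have hη : genericPoint X ∈ U := ((genericPoint_spec X).mem_open_set_iff U.isOpen).2 (by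
      obtain ⟨⟨w, hw⟩⟩ := ‹Nonempty U›; exact ⟨w, trivial, hw⟩)
    have hs : p ⤳ p := specializes_rfl
    have hle : z ⤳ genericPoint X := by
      have hsp := (genericPoint_spec X).specializes (y := y) trivial
      obtain ⟨q, hq⟩ : genericPoint X ∈ Set.range (X.fromSpecStalk y) := by
        rw [Scheme.range_fromSpecStalk]; exact hsp
      rw [← hp, ← hq]
      refine Specializes.map ?_ (X.fromSpecStalk y).continuous
      exact (PrimeSpectrum.le_iff_specializes p q).1 (show p.asIdeal ≤ q.asIdeal by rw [hbot]; exact bot_le)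
    exact hz (hle.mem_open U.isOpen hη)
  · have hmax := Ring.krullDimLE_one_iff_of_noZeroDivisors.1 ‹Ring.KrullDimLE 1 _› p.asIdeal hbot p.2
    have : p = IsLocalRing.closedPoint (X.presheaf.stalk y) := PrimeSpectrum.ext (IsLocalRing.eq_maximalIdeal hmax)
    refine Set.mem_singleton_iff.2 ?_
    rw [← hp, this]
    exact Scheme.fromSpecStalk_closedPoint.symm

theorem main [X.IsSeparated] (U : X.Opens) (hU : IsAffineOpen U) (hne : (U : Set X).Nonempty)
    (hfin : ((U : Set X)ᶜ).Finite)
    (hloc : ∀ x : X, x ∉ U → IsNoetherianRing (X.presheaf.stalk x) ∧ ringKrullDim (X.presheaf.stalk x) = 1) :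
    ∃ (L : X.Modules) (s : Coh.structureModule X ⟶ L), PicF.IsInvertible L ∧ Curv2.IsGloballyGenerated L ∧
      CohB1.genLocus L s = U := by
  classical
  haveI : Nonempty U := hne.to_subtype
  obtain ⟨a, ha⟩ := exists_pole_function hU hfin hloc
  let O := Coh.structureModule (↑U : Scheme.{u})
  let aU : Γ((↑U : Scheme.{u}), ⊤) := resR (U.ι_preimage_self).ge (U.ι.app U a)
  have h : ∀ i : Option ↥((U : Set X)ᶜ), ∃ (W : X.Opens) (c d : Γ(X, W)), X.basicOpen c = W ⊓ U ∧
      (X.basicOpen c ⊔ X.basicOpen d = W) ∧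
      U.ι.app W d = U.ι.app W c * resR le_top aU ∧
      (i.elim (W = U) fun x => x.1 ∈ W ∧ ∀ y ∈ W, y ∉ U → y = x.1) := by
    rintro (_ | x)
    · refine ⟨U, 1, a, by rw [Scheme.basicOpen_of_isUnit _ isUnit_one, inf_idem], ?_, ?_, rfl⟩
      · rw [Scheme.basicOpen_of_isUnit _ isUnit_one]; exact sup_eq_left.2 (X.basicOpen_le a)
      · rw [map_one, one_mul, resR_resR, resR_self]
    · obtain ⟨b, hb, hba⟩ := ha x.1 x.2
      obtain ⟨W₀, hxW₀, g, hg⟩ := X.presheaf.germ_exist b
      have hcl : IsClosed (((U : Set X)ᶜ) \ {x.1}) := by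
        have := Set.Finite.isClosed_biUnion (s := ((U : Set X)ᶜ) \ {x.1}) (f := fun y => ({y} : Set X))
          (hfin.subset Set.sdiff_subset)
          fun y hy => isClosed_singleton_of_notMem (fun z hz => (hloc z hz).2.le) hy.1
        rwa [Set.biUnion_of_singleton] at this
      let W : X.Opens := W₀ ⊓ ⟨(((U : Set X)ᶜ) \ {x.1})ᶜ, hcl.isOpen_compl⟩
      have hxW : x.1 ∈ W := ⟨hxW₀, fun hh => hh.2 rfl⟩
      have hWU : ∀ y ∈ W, y ∉ U → y = x.1 := fun y hy hyU => by_contra fun hne => hy.2 ⟨hyU, hne⟩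
      let c : Γ(X, W) := resR inf_le_left g
      haveI : Nonempty W := ⟨⟨x.1, hxW⟩⟩
      have hηU : genericPoint X ∈ U := ((genericPoint_spec X).mem_open_set_iff U.isOpen).2
        ⟨_, trivial, hne.choose_spec⟩
      have hηW : genericPoint X ∈ W := ((genericPoint_spec X).mem_open_set_iff W.isOpen).2
        ⟨x.1, trivial, hxW⟩
      have hca : resR (inf_le_left : W ⊓ U ≤ W) c * resR (inf_le_right : W ⊓ U ≤ U) a = 1 := by
        apply germ_injective_of_isIntegral (x := genericPoint X) X (show genericPoint X ∈ W ⊓ U from ⟨hηW, hηU⟩)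
        rw [map_mul, map_one, resR_resR]
        refine Eq.trans (congrArg₂ (· * ·) ?_ (X.presheaf.germ_res_apply _ _ _ a)) hba
        refine (X.presheaf.germ_res_apply _ _ _ g).trans ?_
        rw [← hg]
        exact (X.presheaf.germ_stalkSpecializes_apply hxW₀ _ g).symm
      have hc : X.basicOpen c = W ⊓ U := by
        refine le_antisymm ?_ ?_
        · intro y hy
          refine ⟨X.basicOpen_le c hy, by_contra fun hyU => ?_⟩
          obtain rfl := hWU y (X.basicOpen_le c hy) hyU
          have := (X.mem_basicOpen c x.1 hxW).1 hy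
          rw [show X.presheaf.germ W x.1 hxW c = b from (X.presheaf.germ_res_apply _ _ _ g).trans hg] at this
          exact (IsLocalRing.mem_maximalIdeal _).1 hb this
        · intro y hy
          refine (X.mem_basicOpen c y hy.1).2 ?_
          have := (IsUnit.of_mul_eq_one _ hca).map (X.presheaf.germ (W ⊓ U) y hy).hom
          rwa [show (X.presheaf.germ (W ⊓ U) y hy).hom (resR inf_le_left c) = X.presheaf.germ W y hy.1 c from
            X.presheaf.germ_res_apply _ _ _ c] at this
      refine ⟨W, c, 1, hc, ?_, ?_, hxW, hWU⟩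
      · rw [Scheme.basicOpen_of_isUnit _ isUnit_one]; exact sup_eq_right.2 (X.basicOpen_le c)
      · have h1 := congrArg (U.ι.app (W ⊓ U)) hca
        have h2 := congrArg (resR (show U.ι ⁻¹ᵁ W ≤ U.ι ⁻¹ᵁ (W ⊓ U) from fun z hz => ⟨hz, z.2⟩)) h1
        simp only [map_mul, map_one, app_resR, resR_resR, resR_self, c, aU] at h2 ⊢
        exact h2.symm
  choose W c d hc hcd hd hW using h
  have hu : ∀ i, IsUnit (U.ι.app (W i) (c i)) := fun i => by
    have h1 : U.ι ⁻¹ᵁ W i ≤ U.toScheme.basicOpen (U.ι.app (W i) (c i)) := fun z hz => by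
      rw [← Scheme.preimage_basicOpen]
      show U.ι z ∈ X.basicOpen (c i)
      rw [hc]
      exact ⟨hz, z.2⟩
    have h2 := isUnit_resR (le_refl _) (U.ι.app (W i) (c i)) h1
    rwa [resR_self] at h2
  have hne' : ∀ i j, i ≠ j → W i ⊓ W j ≤ U := by
    rintro (_ | i) (_ | j) hij y hy
    · exact absurd rfl hij
    · exact (hW none).le hy.1
    · exact (hW none).le hy.2
    · by_contra hyU
      exact hij (congrArg some (Subtype.ext (((hW (some i)).2 y hy.1 hyU).symm.trans ((hW (some j)).2 y hy.2 hyU))))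
  have hcov : iSup W = ⊤ := by
    refine eq_top_iff.2 fun x _ => ?_
    by_cases hx : x ∈ U
    · exact Opens.mem_iSup.2 ⟨none, (hW none).symm.le hx⟩
    · exact Opens.mem_iSup.2 ⟨some ⟨x, hx⟩, (hW (some ⟨x, hx⟩)).1⟩
  let e : ∀ i, Γ(O, U.ι ⁻¹ᵁ W i) := fun i => ((hu i).unit⁻¹ : _ˣ).1 •
    (show Γ(O, U.ι ⁻¹ᵁ W i) from (1 : Γ(U.toScheme, U.ι ⁻¹ᵁ W i)))
  have hec : ∀ i, U.ι.app (W i) (c i) • e i =
      (show Γ(O, U.ι ⁻¹ᵁ W i) from (1 : Γ(U.toScheme, U.ι ⁻¹ᵁ W i))) := fun i => by
    rw [← mul_smul, IsUnit.mul_val_inv, one_smul]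
  obtain ⟨L, F, hL, hF, -, hgF⟩ := PicExtendPts.exists_glue U W hcov hne' e fun i =>
    (isFrame_one _).isUnit_smul (Units.isUnit _)
  -- gluing a global section from its local coefficients
  have glue : ∀ (f : ∀ i, Γ(X, W i)) (m : Γ(O, ⊤)),
      (∀ i, U.ι.app (W i) (f i) • e i = res O le_top m) →
      ∃ t : Γ(L, ⊤), ∀ i, res L le_top t = f i • F i := by
    intro f m hm
    obtain ⟨t, ht, -⟩ := existsUnique_glue (M := L) (V := ⊤) W (fun _ => le_top)
      (fun p _ => Opens.mem_iSup.1 (by rw [hcov]; trivial)) (fun i => f i • F i) fun i j => by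
        by_cases hij : i = j
        · subst hij; rfl
        · obtain ⟨k, hk⟩ := ((isFrame_one _).isUnit_smul (Units.isUnit (hu j).unit⁻¹)).exists_coord
            (U.ι.preimage_mono (inf_le_right : W i ⊓ W j ≤ W j))
            (res O (U.ι.preimage_mono (inf_le_left : W i ⊓ W j ≤ W i)) (e i))
          obtain ⟨g, rfl⟩ := (PicExtendPts.app_bijective U (hne' i j hij)).2 k
          rw [res_smul, res_smul, hgF i j hij g hk, ← mul_smul]
          refine congrArg (· • _) ((PicExtendPts.app_bijective U (hne' i j hij)).1 ?_)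
          rw [map_mul, app_resR, app_resR]
          have h1 := congrArg (res O (U.ι.preimage_mono (inf_le_left : W i ⊓ W j ≤ W i))) (hm i)
          have h2 := congrArg (res O (U.ι.preimage_mono (inf_le_right : W i ⊓ W j ≤ W j))) (hm j)
          rw [res_smul, res_res] at h1 h2
          rw [hk, ← mul_smul] at h1
          exact ((isFrame_one _).isUnit_smul (Units.isUnit (hu j).unit⁻¹)).coord_unique
            (U.ι.preimage_mono inf_le_right) (h1.trans h2.symm)
    exact ⟨t, ht⟩
  obtain ⟨s, hs⟩ := glue c (show Γ(O, ⊤) from (1 : Γ(U.toScheme, ⊤))) fun i =>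
    (hec i).trans (map_one (resR le_top)).symm
  obtain ⟨t, ht⟩ := glue d (show Γ(O, ⊤) from aU) fun i => by
    rw [hd i, mul_comm, mul_smul, hec i]
    exact mul_one (resR le_top aU)
  refine ⟨L, ofSect s, hL, isGloballyGenerated_of_generated
    (s := fun b : ULift.{u} Bool => if b.down then s else t) (ProjUPX.generatedBy_of_frames _ fun x => ?_), ?_⟩
  · obtain ⟨i, hi⟩ := Opens.mem_iSup.1 (show x ∈ iSup W by rw [hcov]; trivial)
    rw [← hcd i] at hi
    have key : ∀ (f : Γ(X, W i)) (r : Γ(L, ⊤)), res L le_top r = f • F i →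
        IsFrame (res L (le_top : X.basicOpen f ≤ ⊤) r) := fun f r hr => by
      rw [← res_res (le_top : W i ≤ ⊤) (X.basicOpen_le f), hr, res_smul]
      exact ((hF i).res (X.basicOpen_le f)).isUnit_smul (isUnit_resR _ f le_rfl)
    rcases hi with hi | hi
    · exact ⟨⟨true⟩, _, hi, key (c i) s (hs i)⟩
    · exact ⟨⟨false⟩, _, hi, key (d i) t (ht i)⟩
  have key : ∀ i, CohB1.genLocus L (ofSect s) ⊓ W i = W i ⊓ U := fun i => by
    rw [genLocus_inf (ofSect s) (hF i) (g := c i) (by rw [one_ofSect, hs i]), hc]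
  apply Opens.ext
  ext x
  obtain ⟨i, hi⟩ := Opens.mem_iSup.1 (show x ∈ iSup W by rw [hcov]; trivial)
  have := SetLike.ext_iff.1 (key i) x
  exact ⟨fun h => (this.1 ⟨h, hi⟩).2, fun h => (this.2 ⟨hi, h⟩).1⟩

end Groth.Agent.GGDiv
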